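import Cfsg.Agent.H446.OZ.Lib
import Cfsg.Agent.H672.OZ.Full
import Cfsg.Agent.H730.OZ.Asm
import Cfsg.Agent.H296.Fr.RowRu
import Cfsg.Agent.H480.SporRu

/-!
# One vanishing class: the Rudvalis group (helper446, S4842)

The isolated prime 29, and the excess of the rational classes of elements of orders 7 (`|C| ≤ 28`) and 13 (`|C| ≤ 52`).
-/

set_option autoImplicit false
set_option maxRecDepth 100000

open Cfsg Cfsg.Agent.Characters Cfsg.Agent.H732.VZ Cfsg.Agent.H604.OZ Cfsg.Agent.SporadicB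
open Cfsg.Agent.SporRec.TCUpperCert Cfsg.Agent.RuD.Letters

namespace Cfsg.Agent.H446.OZ.Ru

universe u

def w7 : List ℕ := [3]
def h7 : List ℕ := [8, 2]
def w13 : List ℕ := [1, 2, 7]
def h13 : List ℕ := [7, 1, 3, 6, 2, 1, 3, 4, 7, 1, 1]

theorem chk7 : H480.RuRow.chkEq (h7 ++ w7) (w7 ++ (w7 ++ (w7 ++ h7))) = true := by decide +kernel
theorem chk13 : H480.RuRow.chkEq (h13 ++ w13) (w13 ++ (w13 ++ h13)) = true := by decide +kernel

/-- an element of order 7 -/
def y7 : RuOrder.H := wprod ml w7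
/-- an element of order 13 -/
def y13 : RuOrder.H := wprod ml w13

theorem ord7 : orderOf y7 = 7 := H148.Ru.orderC
theorem ord13 : orderOf y13 = 13 := H436.RuCent.orderB

theorem ratl7 : Ratl y7 := by
  have := H436.TwoRu.finite_H
  have h1 : wprod ml h7 * y7 = y7 * (y7 * (y7 * wprod ml h7)) := by
    have h2 := H480.RuRow.eq_of_chkEq chk7
    simp only [wprod_append] at h2
    exact h2
  refine rat_of_conj (h := wprod ml h7) (p := 7) (g := 3) (by norm_num) ord7 ?_ (by decide)
  rw [h1, pow_succ, pow_two]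
  simp only [mul_assoc, mul_inv_cancel, mul_one]

theorem ratl13 : Ratl y13 := by
  have := H436.TwoRu.finite_H
  have h1 : wprod ml h13 * y13 = y13 * (y13 * wprod ml h13) := by
    have h2 := H480.RuRow.eq_of_chkEq chk13
    simp only [wprod_append] at h2
    exact h2
  refine rat_of_conj (h := wprod ml h13) (p := 13) (g := 2) (by norm_num) ord13 ?_ (by decide)
  rw [h1, pow_two]
  simp only [mul_assoc, mul_inv_cancel, mul_one]

def l : List (ℕ × ℕ) := [(2, 14), (3, 3), (5, 3), (7, 1), (13, 1), (29, 1)]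

def N : ℕ := 145926144000

theorem sieve : ((Cfsg.Agent.H417.Divs.divs l).all fun d =>
    !(H672.OZ.okd N 4 l [29] d && exOk 4 7 13 28 52 d)) = true := by decide +kernel

theorem row' [Finite RuOrder.H] : H730.OZ.Row RuOrder.H := by
  have hN : Nat.card RuOrder.H = 145926144000 := RuOrder.card_H
  have hs : IsSimpleGroup RuOrder.H := SporadicB.RuSimple.isSimpleGroup_H
  refine row_of fun χ x h => ?_
  have h4 : 4 ≤ cent x := four_le_cent h (by rw [hN]; norm_num) (by rw [hN]; norm_num)
  have hiso : ∀ r ∈ [29], charDegree (χ : RuOrder.H → ℂ) % r = 0 ∨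
      charDegree (χ : RuOrder.H → ℂ) % r = 1 ∨ charDegree (χ : RuOrder.H → ℂ) % r = r - 1 := by
    intro r hr
    rw [List.mem_singleton] at hr
    subst hr
    refine H672.OZ.iso_mod h (by norm_num) (by norm_num) (by rw [hN]; norm_num) (by rw [hN]; norm_num)
      (by rw [hN]; norm_num) (fun y hy => ?_) h4
    refine Nat.dvd_antisymm (H436.TwoRu.cent29 y hy) ?_
    have h3 : y ∈ Subgroup.centralizer ({y} : Set RuOrder.H) := Subgroup.mem_centralizer_singleton_iff.2 rfl
    have := Subgroup.orderOf_dvd_natCard _ h3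
    rwa [hy] at this
  have hl : Cfsg.Agent.H417.Divs.val l = 145926144000 := by decide +kernel
  have hp : ∀ y ∈ l, y.1.Prime := by
    intro x hx
    simp only [l, List.mem_cons, List.not_mem_nil, or_false] at hx
    rcases hx with rfl | rfl | rfl | rfl | rfl | rfl <;> norm_num
  have h1 := H672.OZ.okd_of h hN hl hp (by decide +kernel) h4 hiso
  have hdiv : ∀ r : ℕ, r.Prime → r ∣ 145926144000 → ¬ r ^ 2 ∣ 145926144000 →
      (1 + 145926144000 / r) % r ≠ 0 → ¬ r ∣ charDegree (χ : RuOrder.H → ℂ) := by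
    intro r hr h1 h2 h3
    have h4 := H672.OZ.not_full h hr (n := 1) one_ne_zero (by rw [hN, pow_one]; exact h1) (by rw [hN]; exact h2)
      (by rw [hN, pow_one]; exact h3)
    rwa [pow_one] at h4
  have h2 : exOk 4 7 13 28 52 (charDegree (χ : RuOrder.H → ℂ)) = true :=
    exOk_of h h4 ratl7 ratl13 (by rw [ord7, ord13]; norm_num) (by norm_num) (by norm_num)
      (hdiv 7 (by norm_num) (by norm_num) (by norm_num) (by norm_num))
      (hdiv 13 (by norm_num) (by norm_num) (by norm_num) (by norm_num))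
      (fun k hk => rat_congr (by norm_num) ⟨1, by rw [ord7, pow_one]⟩ hk)
      (fun k hk => rat_congr (by norm_num) ⟨1, by rw [ord13, pow_one]⟩ hk)
      (Nat.le_of_dvd (by norm_num) (H296.Fr.Ru.cent7 _ ord7))
      (Nat.le_of_dvd (by norm_num) (H436.TwoRu.cent13 _ ord13))
  have h3 := Cfsg.Agent.H417.Divs.all_divs l hp hl sieve (d := charDegree (χ : RuOrder.H → ℂ))
    (by rw [← hN]; exact deg_dvd χ)
  have h5 : H672.OZ.okd N 4 l [29] (charDegree (χ : RuOrder.H → ℂ)) = true := h1
  rw [h5, h2] at h3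
  exact absurd h3 (by decide)

/-- **The Rudvalis group.** -/
theorem row_ru {S : Type u} [Group S] [Finite S] (_hs : IsSimpleGroup S) (h : Spor.IsoRu S) : H730.OZ.Row S := by
  obtain ⟨e⟩ := h
  have hfin : Finite RuOrder.H := H436.TwoRu.finite_H
  exact H730.OZ.Row.congr (e.trans RuLat.Main.equiv) row'

end Cfsg.Agent.H446.OZ.Ru
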