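import Cfsg.Agent.H446.OZ.ThTen
import Cfsg.Agent.H672.OZ.Full
import Cfsg.Agent.H730.OZ.Asm
import Cfsg.Agent.H174.Ore.DegTh

/-!
# One vanishing class: the Thompson group (helper446, S4842)

The isolated primes 19, 31 and the excess of the rational classes 5A (`χ(5A) ≡ d` modulo 125) and 13A leave
`d = 1935360`, which is excluded by 5A, 13A, 2A and the class of the elements of order 10.
-/

set_option autoImplicit false
set_option maxRecDepth 100000

open Cfsg Cfsg.Agent.Characters Cfsg.Agent.H732.VZ Cfsg.Agent.H604.OZ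

namespace Cfsg.Agent.H446.OZ.Th

open Subgroup

universe u

/-- **Rationality from the order of the normalizer.** -/
theorem ratl_of_card {G : Type u} [Group G] [Finite G] {x : G} {p : ℕ} (hp : p.Prime) (ho : orderOf x = p)
    (hN : (p - 1) * cent x ≤ Nat.card ↥(normalizer (zpowers x : Set G))) : Ratl x := by
  classical
  set M : Subgroup G := normalizer (zpowers x : Set G) with hM
  have hCM : centralizer ({x} : Set G) ≤ M := by
    have h0 : centralizer (zpowers x : Set G) = centralizer ({x} : Set G) := by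
      rw [zpowers_eq_closure, centralizer_closure]
    rw [hM, ← h0]
    exact centralizer_le_normalizer _
  let act : MulAction M G := MulAction.compHom G (MulAut.conj.comp M.subtype)
  have h1 : MulAction.orbit M x = {u | ∃ g ∈ M, g * x * g⁻¹ = u} := by
    ext u
    constructor
    · rintro ⟨g, rfl⟩
      exact ⟨g, g.2, rfl⟩
    · rintro ⟨g, hg, rfl⟩
      exact ⟨⟨g, hg⟩, rfl⟩
  have h2 : (MulAction.stabilizer M x).map M.subtype = centralizer ({x} : Set G) := by
    ext u
    rw [mem_centralizer_singleton_iff]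
    constructor
    · rintro ⟨g, hg, rfl⟩
      have h3 : (g : G) * x * (g : G)⁻¹ = x := hg
      rw [mul_inv_eq_iff_eq_mul] at h3
      exact h3
    · intro hu
      refine ⟨⟨u, hCM (mem_centralizer_singleton_iff.2 hu)⟩, ?_, rfl⟩
      change u * x * u⁻¹ = x
      rw [hu, mul_inv_cancel_right]
  have h3 : ({u | ∃ g ∈ M, g * x * g⁻¹ = u} : Set G).ncard * Nat.card ↥(centralizer ({x} : Set G)) = Nat.card M := by
    rw [← h1, ← h2, Subgroup.card_map_of_injective (subtype_injective M), ← MulAction.index_stabilizer, mul_comm]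
    exact Subgroup.card_mul_index _
  have hc0 : 0 < cent x := Nat.card_pos
  have h4 : p - 1 ≤ ({u | ∃ g ∈ M, g * x * g⁻¹ = u} : Set G).ncard := by
    refine Nat.le_of_mul_le_mul_right (le_trans hN (le_of_eq ?_)) hc0
    rw [← h3]
  have hx1 : x ≠ 1 := by
    rintro rfl
    rw [orderOf_one] at ho
    exact hp.one_lt.ne ho
  have h5 : ({u | ∃ g ∈ M, g * x * g⁻¹ = u} : Set G) ⊆ (zpowers x : Set G) \ {1} := by
    rintro _ ⟨g, hg, rfl⟩
    refine ⟨?_, ?_⟩
    · exact (mem_normalizer_iff.1 hg x).1 (mem_zpowers x)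
    · intro hcon
      exact hx1 (conj_eq_one_iff.1 hcon)
  have h6 : ((zpowers x : Set G) \ {1}).ncard = p - 1 := by
    rw [Set.ncard_sdiff_singleton_of_mem (one_mem _)]
    congr 1
    rw [← Nat.card_coe_set_eq]
    exact (Nat.card_zpowers x).trans ho
  have h7 : ({u | ∃ g ∈ M, g * x * g⁻¹ = u} : Set G) = (zpowers x : Set G) \ {1} :=
    Set.eq_of_subset_of_ncard_le h5 (by rw [h6]; exact h4) (Set.toFinite _)
  intro m hm
  have hpd : p ∣ Nat.card G := by rw [← ho]; exact _root_.orderOf_dvd_natCard x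
  have h8 : x ^ m ∈ ((zpowers x : Set G) \ {1}) := by
    refine ⟨pow_mem (mem_zpowers x) m, ?_⟩
    intro hcon
    have h9 : p ∣ m := by rw [← ho]; exact orderOf_dvd_of_pow_eq_one hcon
    have h10 : p ∣ 1 := by rw [← hm.gcd_eq_one]; exact Nat.dvd_gcd h9 hpd
    exact hp.one_lt.ne' (Nat.dvd_one.1 h10)
  rw [← h7] at h8
  obtain ⟨g, -, hg⟩ := h8
  exact (isConj_iff.2 ⟨g, hg⟩).symm

theorem cent13 {x : Spor.Th} (hx : orderOf x = 13) : cent x = 39 := H174.Ore.Th.cent_thirteen hx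

theorem ratl13 {x : Spor.Th} (hx : orderOf x = 13) : Ratl x := by
  have := H174.Ore.Th.finite
  refine ratl_of_card (by norm_num) hx ?_
  have h2 := H444.ThLoc.cn13 (R := zpowers x) (by rw [Nat.card_zpowers, hx])
  have h3 : centralizer (zpowers x : Set Spor.Th) = centralizer ({x} : Set Spor.Th) := by
    rw [zpowers_eq_closure, centralizer_closure]
  have h1 : Nat.card ↥(centralizer (zpowers x : Set Spor.Th)) = 39 := by
    rw [h3]; exact cent13 hx
  rw [cent13 hx]
  simp only [List.mem_cons, List.not_mem_nil, or_false, Prod.mk.injEq] at h2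
  rcases h2 with ⟨h2, h4⟩ | ⟨h2, -⟩ | ⟨h2, -⟩ | ⟨h2, -⟩ | ⟨h2, -⟩ | ⟨h2, -⟩
  · exact h4.ge
  all_goals
    rw [show Nat.card ↥(centralizer (zpowers x : Set Spor.Th)) = _ from h2] at h1
    exact absurd h1 (by norm_num)

/-- the data at 5 -/
theorem exists_five : ∃ z : Spor.Th, orderOf z = 5 ∧ cent z = 3000 ∧ Ratl z ∧
    ∀ χ : IrrCharacter Spor.Th, charDegree (χ : Spor.Th → ℂ) ≠ 1 → ∀ k : ℤ, (χ : Spor.Th → ℂ) z = k →
      (125 : ℤ) ∣ (charDegree (χ : Spor.Th → ℂ) : ℤ) - k := by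
  have := H174.Ore.Th.finite
  have := H174.Ore.Th.simple
  obtain ⟨_, x, y, z, a, D⟩ := H49.ThFive.exists_dat
  refine ⟨z, D.oz, D.card_C, ?_, ?_⟩
  · intro m hm
    have hm5 : m.Coprime 5 := Nat.Coprime.coprime_dvd_right (by rw [D.cardK]; norm_num) hm
    exact isConj_iff.2 (D.all (by rw [Nat.Coprime.orderOf_pow (by rw [D.oz]; exact hm5.symm), D.oz]))
  · intro χ hd k hk
    have hne : (χ : Spor.Th → ℂ) ≠ 1 := by
      intro h
      apply hd
      rw [h]
      unfold charDegree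
      simp
    obtain ⟨b, hb1, hb2, hb⟩ := H174.Ore.fused_val (S := H49.ThFive.PP x y z) (by rw [D.card_P]; norm_num) (z := z)
      (fun u hu hu1 => isConj_iff.2 (D.conj_z hu hu1)) hne
    rw [D.card_P, hk] at hb
    have h1 : k = (charDegree (χ : Spor.Th → ℂ) : ℤ) - (125 : ℕ) * b := by exact_mod_cast hb
    rw [h1]
    exact ⟨b, by push_cast; ring⟩

def l : List (ℕ × ℕ) := [(2, 15), (3, 10), (5, 3), (7, 2), (13, 1), (19, 1), (31, 1)]

/-- a lower bound of the centralizer -/
def cm (d : ℕ) : ℕ := bif Nat.beq (d % 19) 0 then 19 else 4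

theorem sieve : ((Cfsg.Agent.H417.Divs.divs l).all fun d =>
    !(H672.OZ.okd 90745943887872000 4 l [19, 31] d && exOk (cm d) 125 13 3000 39 d) || Nat.beq d 1935360) = true := by
  decide +kernel

theorem hp : ∀ y ∈ l, y.1.Prime := by
  intro x hx
  simp only [l, List.mem_cons, List.not_mem_nil, or_false] at hx
  rcases hx with rfl | rfl | rfl | rfl | rfl | rfl | rfl <;> norm_num

theorem oneClassFive {a b : Spor.Th} (ha : orderOf a = 5) (hb : orderOf b = 5) : IsConj a b := by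
  obtain ⟨_, x, y, z, c, D⟩ := H49.ThFive.exists_dat
  exact (isConj_iff.2 (D.all ha)).trans (isConj_iff.2 (D.all hb)).symm

/-- the real part -/
theorem real_last {A B U E c e : ℝ} (hc : 4 ≤ c) (he0 : 0 < e) (he : e ≤ 120)
    (h1 : c * ((A - 1) / 3000 + (B - 1) / 39 + (4194304 * U - 1) / 92897280 + (E - 1) / e) ≤ 1)
    (hA : 225 ≤ A) (hB : 4 ≤ B) (hU : 1 ≤ U) (hE : 1 ≤ E) : A < 900 ∧ U < 4 ∧ E < 9 := by
  have hE' : (E - 1) / 120 ≤ (E - 1) / e := div_le_div_of_nonneg_left (by linarith) he0 he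
  have h2 : 4 * ((A - 1) / 3000 + (B - 1) / 39 + (4194304 * U - 1) / 92897280 + (E - 1) / 120) ≤ 1 := by
    refine le_trans (mul_le_mul hc ?_ ?_ (by linarith)) h1
    · linarith
    · linarith
  refine ⟨?_, ?_, ?_⟩
  · by_contra hcon
    rw [not_lt] at hcon
    linarith
  · by_contra hcon
    rw [not_lt] at hcon
    linarith
  · by_contra hcon
    rw [not_lt] at hcon
    linarith

theorem arith_last {k5 k13 u k10 : ℤ} {c e : ℝ} (hc : 4 ≤ c) (he0 : 0 < e) (he : e ≤ 120)
    (h1 : c * (((k5 : ℝ) ^ 2 - 1) / 3000 + ((k13 : ℝ) ^ 2 - 1) / 39 + (((2048 * u : ℤ) : ℝ) ^ 2 - 1) / 92897280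
      + ((k10 : ℝ) ^ 2 - 1) / e) ≤ 1) (h5 : (125 : ℤ) ∣ 1935360 - k5) (hk5 : ((15 : ℕ) : ℤ) ^ 2 ≤ k5 ^ 2)
    (hk13 : ((2 : ℕ) : ℤ) ^ 2 ≤ k13 ^ 2) (hu0 : u ≠ 0) (h10 : k10 ≠ 0) (c5 : (5 : ℤ) ∣ k10 - 2048 * u)
    (c2 : (2 : ℤ) ∣ k10 - k5) : False := by
  have sq1 : ∀ {n : ℤ}, n ≠ 0 → (1 : ℝ) ≤ (n : ℝ) ^ 2 := fun {n} hn => by
    have h2 : (1 : ℤ) ≤ n ^ 2 := by
      have := sq_pos_of_ne_zero hn
      omega
    exact_mod_cast h2
  have hA : (225 : ℝ) ≤ (k5 : ℝ) ^ 2 := by
    have h2 : (225 : ℤ) ≤ k5 ^ 2 := le_trans (by norm_num) hk5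
    exact_mod_cast h2
  have hB : (4 : ℝ) ≤ (k13 : ℝ) ^ 2 := by
    have h2 : (4 : ℤ) ≤ k13 ^ 2 := le_trans (by norm_num) hk13
    exact_mod_cast h2
  have e2 : (((2048 * u : ℤ) : ℝ) ^ 2 - 1) = 4194304 * (u : ℝ) ^ 2 - 1 := by push_cast; ring
  rw [e2] at h1
  obtain ⟨g1, g2, g3⟩ := real_last hc he0 he h1 hA hB (sq1 hu0) (sq1 h10)
  have g1' : k5 ^ 2 < 900 := by exact_mod_cast g1
  have g2' : u ^ 2 < 4 := by exact_mod_cast g2
  have g3' : k10 ^ 2 < 9 := by exact_mod_cast g3
  have a1 : k5 < 30 := by nlinarith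
  have a2 : -30 < k5 := by nlinarith
  have a3 : u < 2 := by nlinarith
  have a4 : -2 < u := by nlinarith
  have a5 : k10 < 3 := by nlinarith
  have a6 : -3 < k10 := by nlinarith
  have a7 : u = 1 ∨ u = -1 := by omega
  rcases a7 with rfl | rfl <;> omega

/-- the last degree -/
theorem no_last [Finite Spor.Th] {χ : IrrCharacter Spor.Th} {x : Spor.Th} (h : One χ x)
    (hd : charDegree (χ : Spor.Th → ℂ) = 1935360) : False := by
  have hN : Nat.card Spor.Th = 90745943887872000 := H174.Ore.Th.card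
  have h4 : 4 ≤ cent x := four_le_cent h (by rw [hN]; norm_num) (by rw [hN]; norm_num)
  have hcf := Core.isIrr_isClassFunction χ.2
  obtain ⟨z, hz, hzc, hzr, hzk⟩ := exists_five
  obtain ⟨w, hw⟩ := H174.Ore.Th.exists_ord (r := 13) (by norm_num) (by norm_num)
  have hwc := cent13 hw
  have hwr := ratl13 hw
  obtain ⟨y, t, hy, ht, hyt, hytc, hytr⟩ := exists_ten
  have htc : cent t = 92897280 := MonsterX.ThOneClass.card_centralizer ht
  have htr : Ratl t := by
    intro m hm
    have hm2 : m.Coprime 2 := Nat.Coprime.coprime_dvd_right (by rw [hN]; norm_num) hm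
    exact MonsterX.ThOneClass.oneClass _ _ (by rw [Nat.Coprime.orderOf_pow (by rw [ht]; exact hm2.symm), ht]) ht
  have hcm : Commute y t := hyt
  have hyto : orderOf (y * t) = 10 := by
    rw [hcm.orderOf_mul_eq_mul_orderOf_of_coprime (by rw [hy, ht]; norm_num), hy, ht]
  obtain ⟨k5, hk5⟩ := H849.OZ.rat (χ := χ) hzr
  obtain ⟨k13, hk13⟩ := H849.OZ.rat (χ := χ) hwr
  obtain ⟨k2, hk2⟩ := H849.OZ.rat (χ := χ) htr
  obtain ⟨k10, hk10⟩ := H849.OZ.rat (χ := χ) hytr
  have d5 := hzk χ (by rw [hd]; norm_num) k5 hk5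
  have d13 := rat_congr (χ := χ) (r := 13) (by norm_num) ⟨1, by rw [hw, pow_one]⟩ hk13
  rw [hd] at d5 d13
  push_cast at d5 d13
  -- the centralizer of `x`
  have hx5 : ¬ IsConj x z := fun hcon => by
    have h1 : (k5 : ℂ) = (0 : ℤ) := by
      rw [← hk5, ← Core.classFunction_apply_eq hcf hcon, h.zero]; simp
    have h2 : k5 = 0 := by exact_mod_cast h1
    rw [h2] at d5
    omega
  have hx13 : ¬ IsConj x w := fun hcon => by
    have h1 : (k13 : ℂ) = (0 : ℤ) := by
      rw [← hk13, ← Core.classFunction_apply_eq hcf hcon, h.zero]; simp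
    have h2 : k13 = 0 := by exact_mod_cast h1
    rw [h2] at d13
    omega
  have hk5sq : ((15 : ℕ) : ℤ) ^ 2 ≤ k5 ^ 2 := by
    have h1 := lar_sq_le (d := 1935360) (q := 125) (by norm_num) (k := k5) (by push_cast; exact d5)
    exact h1
  have hk13sq : ((2 : ℕ) : ℤ) ^ 2 ≤ k13 ^ 2 := by
    have h1 := lar_sq_le (d := 1935360) (q := 13) (by norm_num) (k := k13) (by push_cast; exact d13)
    exact h1
  have hzw : ¬ IsConj z w := fun hcon => by
    have := orderOf_eq_of_conj hcon
    rw [hz, hw] at this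
    norm_num at this
  have hc6 := ex_two h (le_refl (cent x)) hzr hwr hzw hx5 hx13 hk5 hk13 hzc.le hwc.le (a := 15) (b := 2)
    (by norm_num) (by norm_num) hk5sq hk13sq
  have hc6' : cent x ≤ 6 := by
    norm_num at hc6
    omega
  have conj_cent : ∀ {g : Spor.Th}, 6 < cent g → ¬ IsConj x g := fun {g} hg hcon => by
    rw [H672.OZ.cent_eq_of_conj hcon] at hc6'
    omega
  have hx2 : ¬ IsConj x t := conj_cent (by rw [htc]; norm_num)
  have hx10 : ¬ IsConj x (y * t) := conj_cent (by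
    have h3 : y * t ∈ centralizer ({y * t} : Set Spor.Th) := mem_centralizer_singleton_iff.2 rfl
    have h5 := Nat.le_of_dvd Nat.card_pos (Subgroup.orderOf_dvd_natCard _ h3)
    rw [hyto] at h5
    exact lt_of_lt_of_le (by norm_num) h5)
  -- the four classes
  have hne : ∀ {a b : Spor.Th}, orderOf a ≠ orderOf b → ¬ IsConj a b := fun hab hcon => hab (orderOf_eq_of_conj hcon)
  have h1 := H849.OZ.excess_rat h (Finset.univ : Finset (Fin 4)) ![z, w, t, y * t] ![k5, k13, k2, k10]
    (fun i _ => by fin_cases i; exacts [hzr, hwr, htr, hytr])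
    (fun i _ => by fin_cases i; exacts [hk5, hk13, hk2, hk10])
    (fun i _ => by fin_cases i; exacts [hx5, hx13, hx2, hx10]) (fun i _ j _ hij => by
      have ho : ∀ i : Fin 4, orderOf ((![z, w, t, y * t] : Fin 4 → Spor.Th) i) = (![5, 13, 2, 10] : Fin 4 → ℕ) i := by
        intro i
        fin_cases i
        exacts [hz, hw, ht, hyto]
      refine hne ?_
      rw [ho, ho]
      revert hij
      revert i j
      decide)
  rw [Fin.sum_univ_four] at h1
  simp only [Matrix.cons_val] at h1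
  rw [hzc, hwc, htc] at h1
  have hn10 : k10 ≠ 0 := fun hcon => hx10 (h.uniq _ (by rw [hk10, hcon]; simp))
  have hn2 : k2 ≠ 0 := fun hcon => hx2 (h.uniq _ (by rw [hk2, hcon]; simp))
  -- congruences
  have ho10 : (y * t) ^ 10 = 1 := by rw [← hyto, pow_orderOf_eq_one]
  have e5 : (y * t) ^ 5 = t := by
    rw [hcm.mul_pow, show y ^ 5 = 1 by rw [← hy, pow_orderOf_eq_one], one_mul, show (5 : ℕ) = 2 * 2 + 1 from rfl,
      pow_succ, pow_mul, show t ^ 2 = 1 by rw [← ht, pow_orderOf_eq_one], one_pow, one_mul]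
  have hyz : IsConj ((y * t) ^ 6) z := by
    have e6 : (y * t) ^ 6 = y := by
      rw [hcm.mul_pow, show y ^ 6 = y by rw [show (6 : ℕ) = 5 + 1 from rfl, pow_succ, show y ^ 5 = 1 by
        rw [← hy, pow_orderOf_eq_one], one_mul], show (6 : ℕ) = 2 * 3 from rfl, pow_mul,
        show t ^ 2 = 1 by rw [← ht, pow_orderOf_eq_one], one_pow, mul_one]
    rw [e6]
    exact oneClassFive hy hz
  have c5 : ((5 : ℕ) : ℤ) ∣ k10 - k2 := av_congr (χ := χ) (r := 5) (by norm_num) (g := y * t) (j := 5) (n := 1) (by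
    rw [← pow_mul, show 5 * 5 ^ 1 = 10 * 2 + 5 ^ 1 from rfl, pow_add, pow_mul, ho10, one_pow, one_mul]) hk10
    (by rw [e5]; exact hk2)
  have c2 : ((2 : ℕ) : ℤ) ∣ k10 - k5 := av_congr (χ := χ) (r := 2) (by norm_num) (g := y * t) (j := 6) (n := 1) (by
    rw [← pow_mul, show 6 * 2 ^ 1 = 10 * 1 + 2 ^ 1 from rfl, pow_add, pow_mul, ho10, one_pow, one_mul]) hk10
    (by rw [Core.classFunction_apply_eq hcf hyz]; exact hk5)
  push_cast at c5 c2
  -- divisibility of the value at the involution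
  have c11 : (2048 : ℤ) ∣ k2 := by
    have h2 := H849.OZ.rat_dvd_deg (χ := χ) t hk2
    rw [hd] at h2
    have h3 : (centralizer ({t} : Set Spor.Th)).index = 976841775 := by
      have h5 := Subgroup.card_mul_index (centralizer ({t} : Set Spor.Th))
      have h6 : Nat.card ↥(centralizer ({t} : Set Spor.Th)) = 92897280 := htc
      rw [h6, hN] at h5
      omega
    rw [h3] at h2
    have h5 : (2048 : ℤ) ∣ 976841775 * k2 := by
      refine dvd_trans ?_ h2
      norm_num
    exact (show IsCoprime (2048 : ℤ) 976841775 by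
      rw [Int.isCoprime_iff_gcd_eq_one]; norm_num).dvd_of_dvd_mul_left h5
  obtain ⟨u, hu⟩ := c11
  have hu0 : u ≠ 0 := by
    rintro rfl
    exact hn2 (by rw [hu]; ring)
  refine arith_last (c := cent x) (e := cent (y * t)) (by exact_mod_cast h4) ?_ (by exact_mod_cast hytc) ?_ d5
    hk5sq hk13sq hu0 hn10 (by rw [← hu]; exact c5) c2
  · have : 0 < cent (y * t) := Nat.card_pos
    exact_mod_cast this
  · rw [hu] at h1
    exact_mod_cast h1

theorem row' [Finite Spor.Th] : H730.OZ.Row Spor.Th := by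
  have hN : Nat.card Spor.Th = 90745943887872000 := H174.Ore.Th.card
  have hs : IsSimpleGroup Spor.Th := H174.Ore.Th.simple
  obtain ⟨f, hf⟩ := H174.Ore.Th.exists_emb
  refine row_of fun χ x h => ?_
  have h4 : 4 ≤ cent x := four_le_cent h (by rw [hN]; norm_num) (by rw [hN]; norm_num)
  have hiso : ∀ r ∈ [19, 31], charDegree (χ : Spor.Th → ℂ) % r = 0 ∨
      charDegree (χ : Spor.Th → ℂ) % r = 1 ∨ charDegree (χ : Spor.Th → ℂ) % r = r - 1 := by
    intro r hr
    simp only [List.mem_cons, List.not_mem_nil, or_false] at hr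
    rcases hr with rfl | rfl
    · exact H672.OZ.iso_mod h (by norm_num) (by norm_num) (by rw [hN]; norm_num) (by rw [hN]; norm_num)
        (by rw [hN]; norm_num) (fun y hy => (H829.Pw.th_cent19 hf hy).1) h4
    · exact H672.OZ.iso_mod h (by norm_num) (by norm_num) (by rw [hN]; norm_num) (by rw [hN]; norm_num)
        (by rw [hN]; norm_num) (fun y hy => H829.Pw.th_cent31 hf hy) h4
  have hl : Cfsg.Agent.H417.Divs.val l = 90745943887872000 := by decide +kernel
  have hcm : cm (charDegree (χ : Spor.Th → ℂ)) ≤ cent x := by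
    unfold cm
    by_cases h19 : charDegree (χ : Spor.Th → ℂ) % 19 = 0
    · have h5 := (H672.OZ.full h (r := 19) (n := 1) (by norm_num) one_ne_zero (by rw [hN]; norm_num)
        (by rw [hN]; norm_num) (by rw [pow_one]; exact Nat.dvd_of_mod_eq_zero h19)).2.1
      rw [h5, h19]
      decide
    · have h5 : Nat.beq (charDegree (χ : Spor.Th → ℂ) % 19) 0 = false := by
        rw [Bool.eq_false_iff]
        exact fun hcon => h19 (Nat.eq_of_beq_eq_true hcon)
      rw [h5]
      exact h4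
  have h1 := H672.OZ.okd_of h hN hl hp (by decide +kernel) h4 hiso
  have h125 : ¬ 125 ∣ charDegree (χ : Spor.Th → ℂ) := by
    have h5 := H672.OZ.not_full h (r := 5) (n := 3) (by norm_num) (by norm_num) (by rw [hN]; norm_num)
      (by rw [hN]; norm_num) (by rw [hN]; norm_num)
    norm_num at h5
    exact h5
  have h13 : ¬ 13 ∣ charDegree (χ : Spor.Th → ℂ) := by
    have h5 := H672.OZ.not_full h (r := 13) (n := 1) (by norm_num) (by norm_num) (by rw [hN]; norm_num)
      (by rw [hN]; norm_num) (by rw [hN]; norm_num)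
    rwa [pow_one] at h5
  obtain ⟨z, hz, hzc, hzr, hzk⟩ := exists_five
  obtain ⟨w, hw⟩ := H174.Ore.Th.exists_ord (r := 13) (by norm_num) (by norm_num)
  have h2 : exOk (cm (charDegree (χ : Spor.Th → ℂ))) 125 13 3000 39 (charDegree (χ : Spor.Th → ℂ)) = true :=
    exOk_of h hcm hzr (ratl13 hw) (by rw [hz, hw]; norm_num) (by norm_num) (by norm_num) h125 h13
      (fun k hk => by exact_mod_cast hzk χ (one_lt_deg h).ne' k hk)
      (fun k hk => rat_congr (by norm_num) ⟨1, by rw [hw, pow_one]⟩ hk) hzc.le (cent13 hw).le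
  have h3 := Cfsg.Agent.H417.Divs.all_divs l hp hl sieve (d := charDegree (χ : Spor.Th → ℂ))
    (by rw [← hN]; exact deg_dvd χ)
  rw [h1, h2, Bool.and_self, Bool.not_true, Bool.false_or] at h3
  exact no_last h (Nat.eq_of_beq_eq_true h3)

/-- **The Thompson group.** -/
theorem row_th {S : Type u} [Group S] [Finite S] (_hs : IsSimpleGroup S) (h : Spor.IsoTh S) : H730.OZ.Row S := by
  obtain ⟨e⟩ := h
  have hfin : Finite Spor.Th := H174.Ore.Th.finite
  exact H730.OZ.Row.congr e row'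

end Cfsg.Agent.H446.OZ.Th
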